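import Groth.Agent.HensCouple7.Gamma
import Groth.Agent.ProperComp7.Main
import Groth.Agent.LocalCrit.Complete
import Groth.Agent.S1297
import Mathlib.RingTheory.AdicCompletion.LocalRing

/-!
# Proper schemes over Noetherian henselian pairs are henselian couples
-/

universe u

open CategoryTheory CategoryTheory.Limits AlgebraicGeometry Topology

namespace Groth.Agent.HensCouple7

/-- The structure map on global functions. -/
noncomputable def toΓ {Y : Scheme.{u}} {A : Type u} [CommRing A] (h : Y ⟶ Spec (CommRingCat.of A)) : A →+* Γ(Y, ⊤) :=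
  ((Scheme.ΓSpecIso (CommRingCat.of A)).inv ≫ h.appTop).hom

theorem mem_basicOpen_toΓ {Y : Scheme.{u}} {A : Type u} [CommRing A] (h : Y ⟶ Spec (CommRingCat.of A)) (a : A) (y : Y) :
    y ∈ Y.basicOpen (toΓ h a) ↔ h y ∈ PrimeSpectrum.basicOpen a := by
  have h1 : h ⁻¹ᵁ (Spec (CommRingCat.of A)).basicOpen ((Scheme.ΓSpecIso (CommRingCat.of A)).inv a) =
      Y.basicOpen (toΓ h a) := Scheme.preimage_basicOpen h _
  rw [← h1, basicOpen_eq_of_affine]
  rfl

theorem finite_toΓ {Y : Scheme.{u}} {A : Type u} [CommRing A] [IsNoetherianRing A] (h : Y ⟶ Spec (CommRingCat.of A))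
    [IsProper h] : (toΓ h).Finite :=
  (Groth.Agent.S1297.finite_appTop h).comp
    (RingHom.Finite.of_surjective _ (ConcreteCategory.bijective_of_isIso (Scheme.ΓSpecIso (CommRingCat.of A)).inv).2)

theorem lifts_of_exists {Y : Type u} [TopologicalSpace Y] {Z : Set Y}
    (huniq : ∀ D : Set Y, IsClopen D → D ∩ Z = ∅ → D = ∅)
    (hex : ∀ V : Set Z, IsClopen V → ∃ U : Set Y, IsClopen U ∧ Subtype.val ⁻¹' U = V) : Lifts Z := by
  intro V hV
  obtain ⟨U, hU, hUV⟩ := hex V hV
  refine ⟨U, ⟨hU, hUV⟩, fun U' hU' => ?_⟩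
  have key : ∀ D D' : Set Y, IsClopen D → IsClopen D' →
      (Subtype.val ⁻¹' D : Set Z) = Subtype.val ⁻¹' D' → D ⊆ D' := by
    intro D D' hD hD' he y hy
    by_contra hy'
    refine Set.eq_empty_iff_forall_notMem.mp (huniq (D ∩ D'ᶜ) (hD.inter hD'.compl) ?_) y ⟨hy, hy'⟩
    refine Set.eq_empty_of_forall_notMem fun z hz => hz.1.2 ?_
    exact (Set.ext_iff.mp he ⟨z, hz.2⟩).mp hz.1.1
  exact (key _ _ hU'.1 hU (hU'.2.trans hUV.symm)).antisymm (key _ _ hU hU'.1 (hUV.trans hU'.2.symm))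

theorem range_specMap_mk (A : Type u) [CommRing A] (I : Ideal A) :
    Set.range (Spec.map (CommRingCat.ofHom (Ideal.Quotient.mk I))) = PrimeSpectrum.zeroLocus (I : Set A) := by
  show Set.range (PrimeSpectrum.comap (Ideal.Quotient.mk I)) = _
  rw [range_comap_of_surjective _ _ Ideal.Quotient.mk_surjective, Ideal.mk_ker]

/-- Clopens of a proper scheme over a Noetherian henselian pair are those of its closed part. -/
theorem lifts_proper {A : Type u} [CommRing A] [IsNoetherianRing A] (I : Ideal A) [HenselianRing A I]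
    {Y : Scheme.{u}} (h : Y ⟶ Spec (CommRingCat.of A)) [IsProper h] :
    Lifts (h ⁻¹' PrimeSpectrum.zeroLocus (I : Set A)) := by
  refine lifts_of_exists (fun D hD hDZ => ?_) fun V hV => ?_
  · by_contra hne
    obtain ⟨y, hy⟩ := Set.nonempty_iff_ne_empty.mpr hne
    obtain ⟨m, hm, hle⟩ := Ideal.exists_le_maximal (h y).asIdeal (h y).isPrime.ne_top
    let p : PrimeSpectrum A := ⟨m, hm.isPrime⟩
    obtain ⟨z, hz, hzp⟩ : p ∈ h '' D := by
      refine (h.isClosedMap D hD.isClosed).stableUnderSpecialization ?_ ⟨y, hy, rfl⟩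
      exact (PrimeSpectrum.le_iff_specializes _ _).mp hle
    refine Set.eq_empty_iff_forall_notMem.mp hDZ z ⟨hz, ?_⟩
    rw [Set.mem_preimage, hzp]
    exact (HenselianRing.jac (I := I)).trans (sInf_le ⟨bot_le, hm⟩)
  let C := AdicCompletion I A
  let η : A →+* C := algebraMap A C
  let J₀ : Ideal C := I.map η
  haveI : Module.Flat A C := AdicCompletion.flat_of_isNoetherian I
  haveI : IsAdicComplete J₀ C := AdicCompletion.isAdicComplete_self I (IsNoetherian.noetherian I)
  haveI : IsNoetherianRing (C ⧸ J₀) := by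
    refine isNoetherianRing_of_surjective A _ ((Ideal.Quotient.mk J₀).comp η) fun x => ?_
    obtain ⟨x, rfl⟩ := Ideal.Quotient.mk_surjective x
    obtain ⟨a, ha⟩ := Ideal.Quotient.mk_surjective (AdicCompletion.evalOneₐ I x)
    refine ⟨a, Ideal.Quotient.eq.mpr ?_⟩
    show _ ∈ I.map (algebraMap A C)
    rw [← AdicCompletion.ker_evalOneₐ_eq_map I (IsNoetherian.noetherian I), RingHom.mem_ker, map_sub, sub_eq_zero]
    exact (DFunLike.congr_fun (AdicCompletion.evalOneₐ_comp_algebraMap_eq_mk I) a).trans ha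
  haveI : IsNoetherianRing C := LocalCrit.isNoetherianRing_of_isAdicComplete J₀
    (Ideal.FG.map (IsNoetherian.noetherian I) _)
  let s := Spec.map (CommRingCat.ofHom η)
  haveI : Flat s := by
    rw [HasRingHomProperty.Spec_iff (P := @Flat)]; exact RingHom.flat_algebraMap_iff.mpr inferInstance
  haveI : CompactSpace Y := QuasiCompact.compactSpace_of_compactSpace h
  haveI : QuasiSeparatedSpace Y := quasiSeparatedSpace_of_quasiSeparated h
  let W := pullback h s
  let p : W ⟶ Y := pullback.fst h s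
  let hc : W ⟶ Spec (CommRingCat.of C) := pullback.snd h s
  have HW : IsPullback p hc h s := IsPullback.of_hasPullback h s
  let Z : Set Y := h ⁻¹' PrimeSpectrum.zeroLocus (I : Set A)
  have hZW : p ⁻¹' Z = hc ⁻¹' PrimeSpectrum.zeroLocus (J₀ : Set C) := by
    ext w
    have hw : h (p w) = s (hc w) := by rw [← Scheme.Hom.comp_apply, HW.w, Scheme.Hom.comp_apply]
    show (show PrimeSpectrum A from h (p w)) ∈ PrimeSpectrum.zeroLocus (I : Set A) ↔
      (show PrimeSpectrum C from hc w) ∈ PrimeSpectrum.zeroLocus (J₀ : Set C)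
    rw [hw]
    exact (Ideal.map_le_iff_le_comap (f := η)).symm
  have hsurj : ∀ z ∈ Z, ∃ w, p w = z := by
    intro z hz
    refine Set.mem_range.mp ?_
    rw [Scheme.Pullback.range_fst]
    let ev : C →+* A ⧸ I := (AdicCompletion.evalOneₐ I).toRingHom
    have hz' : h z ∈ Set.range (Spec.map (CommRingCat.ofHom (Ideal.Quotient.mk I))) := by
      rw [range_specMap_mk]; exact hz
    obtain ⟨x, hx⟩ := hz'
    refine ⟨Spec.map (CommRingCat.ofHom ev) x, ?_⟩
    rw [← Scheme.Hom.comp_apply, ← Spec.map_comp, ← CommRingCat.ofHom_comp,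
      show ev.comp η = Ideal.Quotient.mk I from AdicCompletion.evalOneₐ_comp_algebraMap_eq_mk I, hx]
  -- the clopen subset of the completed scheme
  have hLW : Lifts (p ⁻¹' Z) := by
    haveI : IsClosedImmersion (Spec.map (CommRingCat.ofHom (Ideal.Quotient.mk J₀))) :=
      IsClosedImmersion.spec_of_surjective _ Ideal.Quotient.mk_surjective
    have := (scheme_lifts_iff hc (Spec.map (CommRingCat.ofHom (Ideal.Quotient.mk J₀)))).mp
      (ProperComp7.exists_lift_clopen (I := J₀) hc)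
    rwa [range_specMap_mk, ← hZW] at this
  let r : (p ⁻¹' Z : Set W) → Z := fun w => ⟨p w.1, w.2⟩
  obtain ⟨U', ⟨hU', hUV'⟩, -⟩ := hLW (r ⁻¹' V)
    (hV.preimage ((p.continuous.comp continuous_subtype_val).subtype_mk _))
  obtain ⟨ε, hε, hεU⟩ := exists_idempotent_of_isClopen hU'
  -- functions
  letI : Algebra A Γ(Y, ⊤) := (toΓ h).toAlgebra
  haveI : Module.Finite A Γ(Y, ⊤) := finite_toΓ h
  let IB : Ideal Γ(Y, ⊤) := I.map (toΓ h)
  let qI : A ⧸ I →+* Γ(Y, ⊤) ⧸ IB := Ideal.quotientMap IB (toΓ h) Ideal.le_comap_map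
  let ev : C →+* A ⧸ I := (AdicCompletion.evalOneₐ I).toRingHom
  have hev : ev.comp η = Ideal.Quotient.mk I := AdicCompletion.evalOneₐ_comp_algebraMap_eq_mk I
  have hpo := isPushout_appTop HW
  have hq : h.appTop ≫ CommRingCat.ofHom (Ideal.Quotient.mk IB) =
      s.appTop ≫ (Scheme.ΓSpecIso (CommRingCat.of C)).hom ≫ CommRingCat.ofHom (qI.comp ev) := by
    rw [Scheme.ΓSpecIso_naturality_assoc, ← CommRingCat.ofHom_comp, RingHom.comp_assoc, hev,
      ← Iso.inv_comp_eq]
    ext a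
    exact (Ideal.quotientMap_mk (f := toΓ h) (J := I) (I := IB) (H := Ideal.le_comap_map)).symm
  let q := hpo.desc (CommRingCat.ofHom (Ideal.Quotient.mk IB))
    ((Scheme.ΓSpecIso (CommRingCat.of C)).hom ≫ CommRingCat.ofHom (qI.comp ev)) hq
  have hqp : p.appTop ≫ q = CommRingCat.ofHom (Ideal.Quotient.mk IB) := hpo.inl_desc _ _ hq
  have hqc : hc.appTop ≫ q = (Scheme.ΓSpecIso (CommRingCat.of C)).hom ≫ CommRingCat.ofHom (qI.comp ev) :=
    hpo.inr_desc _ _ hq
  let J : Ideal Γ(W, ⊤) := IB.map p.appTop.hom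
  let β : Γ(Y, ⊤) ⧸ IB →+* Γ(W, ⊤) ⧸ J := Ideal.quotientMap J p.appTop.hom Ideal.le_comap_map
  have hβ : CommRingCat.ofHom (Ideal.Quotient.mk J) = q ≫ CommRingCat.ofHom β := by
    refine hpo.hom_ext ?_ ?_
    · rw [reassoc_of% hqp]; ext b
      exact (Ideal.quotientMap_mk (f := p.appTop.hom) (J := IB) (I := J) (H := Ideal.le_comap_map)).symm
    · rw [reassoc_of% hqc]
      ext x
      obtain ⟨a, ha⟩ := Ideal.Quotient.mk_surjective (ev ((Scheme.ΓSpecIso (CommRingCat.of C)).hom.hom x))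
      have hx : (Scheme.ΓSpecIso (CommRingCat.of C)).hom.hom x - η a ∈ J₀ := by
        show _ ∈ I.map (algebraMap A C)
        rw [← AdicCompletion.ker_evalOneₐ_eq_map I (IsNoetherian.noetherian I), RingHom.mem_ker, map_sub]
        exact sub_eq_zero.mpr (ha.symm.trans (DFunLike.congr_fun hev a).symm)
      let κ : C →+* Γ(W, ⊤) := toΓ hc
      have hκ : κ.comp η = p.appTop.hom.comp (toΓ h) := by
        have : CommRingCat.ofHom η ≫ (Scheme.ΓSpecIso (CommRingCat.of C)).inv ≫ hc.appTop =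
            ((Scheme.ΓSpecIso (CommRingCat.of A)).inv ≫ h.appTop) ≫ p.appTop := by
          rw [Category.assoc, hpo.w, ← Category.assoc, Scheme.ΓSpecIso_inv_naturality, Category.assoc]
        exact congrArg CommRingCat.Hom.hom this
      have hJ : J₀.map κ ≤ J := by
        rw [Ideal.map_map, hκ, ← Ideal.map_map]
      have h1 : κ ((Scheme.ΓSpecIso (CommRingCat.of C)).hom.hom x) = hc.appTop.hom x :=
        congr($((Scheme.ΓSpecIso (CommRingCat.of C)).hom_inv_id_assoc hc.appTop).hom x)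
      show Ideal.Quotient.mk J (hc.appTop.hom x) = β (qI (ev _))
      refine Eq.trans ?_ (congrArg (fun t => β (qI t)) ha)
      rw [← h1]
      refine (Ideal.Quotient.eq.mpr (hJ (by rw [← map_sub]; exact Ideal.mem_map_of_mem κ hx))).trans ?_
      rw [show κ (η a) = p.appTop.hom (toΓ h a) from DFunLike.congr_fun hκ a]
      exact ((congrArg β (Ideal.quotientMap_mk (f := toΓ h) (J := I) (I := IB) (H := Ideal.le_comap_map))).trans
        (Ideal.quotientMap_mk (f := p.appTop.hom) (J := IB) (I := J) (H := Ideal.le_comap_map))).symm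
  obtain ⟨e, he, heq⟩ := (((Hensel.henselianRing_iff_idempotents_lift I).mp ‹_›) Γ(Y, ⊤) inferInstance).surjOn
    (show IsIdempotentElem (q.hom ε) from (show IsIdempotentElem ε from hε).map q.hom)
  have hdiff : ε - p.appTop.hom e ∈ J := by
    rw [← Ideal.Quotient.eq]
    refine (congr($(hβ).hom ε)).trans ((congrArg β heq.symm).trans ?_)
    exact Ideal.quotientMap_mk
  have hvan : ∀ c ∈ J, ∀ w ∈ p ⁻¹' Z, w ∉ W.basicOpen c := by
    intro c hc' w hw
    have hc'' : c ∈ I.map (p.appTop.hom.comp (toΓ h)) := by rwa [← Ideal.map_map]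
    clear hc'
    induction hc'' using Submodule.span_induction with
    | mem c hc =>
      obtain ⟨a, ha, rfl⟩ := hc
      rw [RingHom.comp_apply, ← Scheme.preimage_basicOpen_top]
      show p w ∉ Y.basicOpen (toΓ h a)
      rw [mem_basicOpen_toΓ]
      exact fun hh => hh (hw ha)
    | zero => rw [Scheme.basicOpen_zero]; exact fun h => h.elim
    | add c d _ _ hc hd => exact fun h => (W.basicOpen_add_le _ _ h).elim hc hd
    | smul a c _ hc =>
      rw [smul_eq_mul, Scheme.basicOpen_mul]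
      exact fun h => hc h.2
  have hsub : ∀ a b : Γ(W, ⊤), a * a = a → b * b = b → a - b ∈ J → ∀ w ∈ p ⁻¹' Z,
      w ∈ W.basicOpen a → w ∈ W.basicOpen b := by
    intro a b ha hb hab w hw hwa
    by_contra hwb
    refine hvan (a * (a - b)) (J.mul_mem_left a hab) w hw ?_
    have hwb' : w ∈ (W.basicOpen (1 - b) : Set W) := by rw [basicOpen_compl_of_idem hb]; exact hwb
    rw [show a * (a - b) = a * (1 - b) by linear_combination ha, Scheme.basicOpen_mul]
    exact ⟨hwa, hwb'⟩
  have he' : p.appTop.hom e * p.appTop.hom e = p.appTop.hom e := by rw [← map_mul, he.eq]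
  refine ⟨Y.basicOpen e, ⟨⟨?_⟩, (Y.basicOpen e).isOpen⟩, ?_⟩
  · rw [← basicOpen_compl_of_idem he.eq]; exact (Y.basicOpen (1 - e)).isOpen
  · ext ⟨z, hz⟩
    obtain ⟨w, rfl⟩ := hsurj z hz
    have h1 : p w ∈ Y.basicOpen e ↔ w ∈ W.basicOpen (p.appTop.hom e) := by
      rw [← Scheme.preimage_basicOpen_top]; rfl
    show p w ∈ Y.basicOpen e ↔ _
    refine h1.trans (Iff.trans ⟨hsub _ _ he' hε (by simpa using J.neg_mem hdiff) w hz,
      hsub _ _ hε he' hdiff w hz⟩ ?_)
    have h2 : (⟨w, hz⟩ : (p ⁻¹' Z : Set W)) ∈ Subtype.val ⁻¹' U' ↔ (⟨p w, hz⟩ : Z) ∈ V := by rw [hUV']; rfl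
    rw [← SetLike.mem_coe, hεU]
    exact h2

/-- Finite morphisms to a proper scheme over a henselian pair. -/
theorem lifts_finite_proper {A : Type u} [CommRing A] [IsNoetherianRing A] (I : Ideal A) [HenselianRing A I]
    {X Y : Scheme.{u}} (f : X ⟶ Spec (CommRingCat.of A)) [IsProper f] (g : Y ⟶ X) [IsFinite g] :
    Lifts (g ⁻¹' (f ⁻¹' PrimeSpectrum.zeroLocus (I : Set A))) :=
  lifts_proper I (g ≫ f)

theorem range_fst_mk {A : Type u} [CommRing A] (I : Ideal A) {X : Scheme.{u}} (f : X ⟶ Spec (CommRingCat.of A)) :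
    Set.range (pullback.fst f (Spec.map (CommRingCat.ofHom (Ideal.Quotient.mk I)))) =
      f ⁻¹' PrimeSpectrum.zeroLocus (I : Set A) := by
  rw [Scheme.Pullback.range_fst, range_specMap_mk]

variable {A : Type u} [CommRing A] [IsNoetherianRing A] (I : Ideal A) {X : Scheme.{u}}
  (f : X ⟶ Spec (CommRingCat.of A)) [IsProper f]

omit [IsNoetherianRing A] [IsProper f] in
theorem toSpecΓ_comp : X.toSpecΓ ≫ Spec.map (CommRingCat.ofHom (toΓ f)) = f := by
  rw [toΓ, CommRingCat.ofHom_hom, Spec.map_comp, ← Category.assoc, ← Scheme.toSpecΓ_naturality, Category.assoc]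
  simp

include f in
omit [IsNoetherianRing A] in
theorem isProper_toSpecΓ : IsProper X.toSpecΓ := by
  haveI : IsProper (X.toSpecΓ ≫ Spec.map (CommRingCat.ofHom (toΓ f))) := by rw [toSpecΓ_comp]; infer_instance
  exact MorphismProperty.of_postcomp @IsProper X.toSpecΓ (Spec.map (CommRingCat.ofHom (toΓ f)))
    (inferInstance : IsSeparated _) inferInstance

include f in
theorem isNoetherianRing_gamma : IsNoetherianRing Γ(X, ⊤) := by
  letI : Algebra A Γ(X, ⊤) := (toΓ f).toAlgebra
  haveI : Module.Finite A Γ(X, ⊤) := finite_toΓ f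
  exact IsNoetherianRing.of_finite A _

omit [IsNoetherianRing A] [IsProper f] in
theorem toΓ_mem_ker {a : A} (ha : a ∈ I) : toΓ f a ∈
    RingHom.ker (pullback.fst f (Spec.map (CommRingCat.ofHom (Ideal.Quotient.mk I)))).appTop.hom := by
  show ((f.appTop ≫ (pullback.fst f (Spec.map (CommRingCat.ofHom (Ideal.Quotient.mk I)))).appTop).hom
    ((Scheme.ΓSpecIso (CommRingCat.of A)).inv.hom a)) = 0
  rw [← Scheme.Hom.comp_appTop, pullback.condition, Scheme.Hom.comp_appTop, CommRingCat.hom_comp, RingHom.comp_apply]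
  have key : (Spec.map (CommRingCat.ofHom (Ideal.Quotient.mk I))).appTop.hom
      ((Scheme.ΓSpecIso (CommRingCat.of A)).inv.hom a) = 0 := by
    refine (congr($(Scheme.ΓSpecIso_inv_naturality (CommRingCat.ofHom (Ideal.Quotient.mk I))).hom a)).symm.trans ?_
    show (Scheme.ΓSpecIso (CommRingCat.of (A ⧸ I))).inv.hom (Ideal.Quotient.mk I a) = 0
    rw [Ideal.Quotient.eq_zero_iff_mem.mpr ha, map_zero]
  exact (congrArg _ key).trans (map_zero _)

theorem lifts_of_gamma
    (h : HenselianRing (Γ(X, ⊤) : Type u)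
      (RingHom.ker (pullback.fst f (Spec.map (CommRingCat.ofHom (Ideal.Quotient.mk I)))).appTop.hom))
    {Y : Scheme.{u}} (g : Y ⟶ X) [IsFinite g] :
    Lifts (g ⁻¹' Set.range (pullback.fst f (Spec.map (CommRingCat.ofHom (Ideal.Quotient.mk I))))) := by
  haveI : IsClosedImmersion (Spec.map (CommRingCat.ofHom (Ideal.Quotient.mk I))) :=
    IsClosedImmersion.spec_of_surjective _ Ideal.Quotient.mk_surjective
  haveI := isNoetherianRing_gamma f
  haveI := isProper_toSpecΓ f
  haveI := h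
  let i := pullback.fst f (Spec.map (CommRingCat.ofHom (Ideal.Quotient.mk I)))
  let K : Ideal Γ(X, ⊤) := RingHom.ker i.appTop.hom
  have hK : Set.range i = X.toSpecΓ ⁻¹' PrimeSpectrum.zeroLocus (K : Set Γ(X, ⊤)) := by
    refine subset_antisymm ?_ ?_
    · rintro _ ⟨p, rfl⟩ c hc
      by_contra hp
      refine notMem_range_of_app_eq_zero i (RingHom.mem_ker.mp hc) p ?_
      rw [← Scheme.toSpecΓ_preimage_basicOpen]
      exact hp
    · intro x hx
      rw [range_fst_mk]
      intro a ha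
      by_contra hfa
      have h1 : x ∈ X.basicOpen (toΓ f a) := (mem_basicOpen_toΓ f a x).mpr hfa
      rw [← Scheme.toSpecΓ_preimage_basicOpen] at h1
      exact h1 (hx (toΓ_mem_ker I f ha))
  rw [hK]
  exact lifts_finite_proper (A := Γ(X, ⊤)) K X.toSpecΓ g

theorem exists_stein
    (hX : ∀ (Y : Scheme.{u}) (g : Y ⟶ X), IsFinite g →
      ∀ V : Set ↥(pullback g (pullback.fst f (Spec.map (CommRingCat.ofHom (Ideal.Quotient.mk I))))), IsClopen V →
        ∃! U : Set ↥Y, IsClopen U ∧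
          (pullback.fst g (pullback.fst f (Spec.map (CommRingCat.ofHom (Ideal.Quotient.mk I))))).base ⁻¹' U = V) :
    ∃ (A' : Type u) (_ : CommRing A') (I' : Ideal A') (_ : HenselianRing A' I') (_ : IsNoetherianRing A')
      (f' : X ⟶ Spec (CommRingCat.of A')) (_ : IsProper f')
      (t : pullback f (Spec.map (CommRingCat.ofHom (Ideal.Quotient.mk I))) ⟶ Spec (CommRingCat.of (A' ⧸ I'))),
      IsPullback (pullback.fst f (Spec.map (CommRingCat.ofHom (Ideal.Quotient.mk I)))) t f'
        (Spec.map (CommRingCat.ofHom (Ideal.Quotient.mk I'))) := by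
  haveI : IsClosedImmersion (Spec.map (CommRingCat.ofHom (Ideal.Quotient.mk I))) :=
    IsClosedImmersion.spec_of_surjective _ Ideal.Quotient.mk_surjective
  haveI : CompactSpace X := QuasiCompact.compactSpace_of_compactSpace f
  haveI : QuasiSeparatedSpace X := quasiSeparatedSpace_of_quasiSeparated f
  let σ := Spec.map (CommRingCat.ofHom (Ideal.Quotient.mk I))
  let i := pullback.fst f σ
  let K : Ideal Γ(X, ⊤) := RingHom.ker i.appTop.hom
  have hK : HenselianRing Γ(X, ⊤) K :=
    henselianRing_gamma i fun Y g hg => (scheme_lifts_iff g i).mp (hX Y g hg)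
  haveI : IsClosedImmersion (Spec.map (CommRingCat.ofHom (Ideal.Quotient.mk K))) :=
    IsClosedImmersion.spec_of_surjective _ Ideal.Quotient.mk_surjective
  let ι : Γ(X, ⊤) ⧸ K →+* Γ(pullback f σ, ⊤) := Ideal.Quotient.lift K i.appTop.hom fun _ h => h
  let t : pullback f σ ⟶ Spec (CommRingCat.of (Γ(X, ⊤) ⧸ K)) :=
    (pullback f σ).toSpecΓ ≫ Spec.map (CommRingCat.ofHom ι)
  refine ⟨Γ(X, ⊤), inferInstance, K, hK, isNoetherianRing_gamma f, X.toSpecΓ, isProper_toSpecΓ f, t, ?_⟩
  have hw : i ≫ X.toSpecΓ = t ≫ Spec.map (CommRingCat.ofHom (Ideal.Quotient.mk K)) := by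
    rw [Scheme.toSpecΓ_naturality, Category.assoc, ← Spec.map_comp]
    rfl
  let φ : A ⧸ I →+* Γ(X, ⊤) ⧸ K := Ideal.quotientMap K (toΓ f) fun a ha => toΓ_mem_ker I f ha
  have hφ : ∀ {T : Scheme.{u}} (a : T ⟶ X) (b : T ⟶ Spec (CommRingCat.of (Γ(X, ⊤) ⧸ K))),
      a ≫ X.toSpecΓ = b ≫ Spec.map (CommRingCat.ofHom (Ideal.Quotient.mk K)) →
      a ≫ f = (b ≫ Spec.map (CommRingCat.ofHom φ)) ≫ σ := by
    intro T a b hab
    conv_lhs => rw [← toSpecΓ_comp f]
    rw [reassoc_of% hab, Category.assoc, ← Spec.map_comp, ← Spec.map_comp]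
    rfl
  refine ⟨⟨hw⟩, ⟨PullbackCone.IsLimit.mk hw (fun c => pullback.lift c.fst _ (hφ c.fst c.snd c.condition))
    (fun c => pullback.lift_fst _ _ _) (fun c => ?_) (fun c m hm _ => ?_)⟩⟩
  · rw [← cancel_mono (Spec.map (CommRingCat.ofHom (Ideal.Quotient.mk K))), Category.assoc, ← hw, pullback.lift_fst_assoc]
    exact c.condition
  · haveI : Mono i := inferInstance
    rw [← cancel_mono i]
    exact hm.trans (pullback.lift_fst _ _ _).symm

end Groth.Agent.HensCouple7
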