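import Groth.Agent.HensCouple7.Affine

/-!
# Global sections of a henselian couple form a henselian pair
-/

universe u

open CategoryTheory CategoryTheory.Limits AlgebraicGeometry Topology TopologicalSpace

namespace Groth.Agent.HensCouple7

theorem isPushout_appTop {X Y S T : Scheme.{u}} {g : Y ⟶ X} {q : Y ⟶ T} {F : X ⟶ S} {s : T ⟶ S}
    (H : IsPullback g q F s) [IsAffine S] [IsAffine T] [Flat s] [CompactSpace X] [QuasiSeparatedSpace X] :
    IsPushout F.appTop s.appTop g.appTop q.appTop := by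
  have h := (isIso_pushoutSection_iff H (US := ⊤) (UT := ⊤) (UX := ⊤) (UY := ⊤) le_top le_top (by simp)).mp
    (isIso_pushoutSection_of_isQuasiSeparated_of_flat_right H le_top le_top (by simp)
      (isAffineOpen_top S) (isAffineOpen_top T) isCompact_univ isQuasiSeparated_univ)
  simpa [Scheme.Hom.app_eq_appLE, Scheme.Hom.appTop] using h

/-- A clopen set is cut out by an idempotent global function. -/
theorem exists_idempotent_of_isClopen {Y : Scheme.{u}} {U : Set Y} (hU : IsClopen U) :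
    ∃ ε : Γ(Y, ⊤), ε * ε = ε ∧ (Y.basicOpen ε : Set Y) = U := by
  let O : Bool → Y.Opens := fun b => if b then ⟨U, hU.isOpen⟩ else ⟨Uᶜ, hU.compl.isOpen⟩
  let sf : ∀ b, Γ(Y, O b) := fun b => if b then 1 else 0
  have hbot : ∀ b c, b ≠ c → O b ⊓ O c = ⊥ := fun b c h => by
    refine Opens.ext ?_
    cases b <;> cases c <;> simp_all [O]
  have hcov : ⊤ ≤ ⨆ b, O b := fun y _ => by
    rw [Opens.mem_iSup]
    by_cases h : y ∈ U
    · exact ⟨true, h⟩
    · exact ⟨false, h⟩
  obtain ⟨ε, hε, hu⟩ := TopCat.Sheaf.existsUnique_gluing' Y.sheaf O ⊤ (fun b => homOfLE le_top) hcov sf (fun b c => by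
    rcases eq_or_ne b c with rfl | h
    · rfl
    · haveI : Subsingleton Γ(Y, O b ⊓ O c) := by
        rw [hbot b c h]; infer_instance
      exact @Subsingleton.elim _ this _ _)
  refine ⟨ε, hu _ fun b => ?_, ?_⟩
  · have h : Y.presheaf.map (homOfLE (le_top : O b ≤ ⊤)).op ε = sf b := hε b
    refine (map_mul (Y.presheaf.map (homOfLE (le_top : O b ≤ ⊤)).op).hom ε ε).trans
      ((congrArg₂ (· * ·) h h).trans ?_)
    cases b <;> simp [sf]
  · ext y
    obtain ⟨b, hyb⟩ : ∃ b, y ∈ O b := Opens.mem_iSup.mp (hcov (Opens.mem_top y))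
    have h1 : y ∈ Y.basicOpen ε ↔ y ∈ Y.basicOpen (Y.presheaf.map (homOfLE (le_top : O b ≤ ⊤)).op ε) := by
      rw [Scheme.basicOpen_res]; exact ⟨fun h => ⟨hyb, h⟩, fun h => h.2⟩
    rw [SetLike.mem_coe, h1, show Y.presheaf.map (homOfLE (le_top : O b ≤ ⊤)).op ε = sf b from hε b]
    cases b
    · simp only [sf, Bool.false_eq_true, if_false, Scheme.basicOpen_zero]
      exact ⟨fun h => h.elim, fun h => absurd h hyb⟩
    · simp only [sf, if_true, Scheme.basicOpen_of_isUnit _ isUnit_one]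
      exact iff_of_true hyb hyb

theorem basicOpen_compl_of_idem {Y : Scheme.{u}} {t : Γ(Y, ⊤)} (ht : t * t = t) :
    (Y.basicOpen (1 - t) : Set Y) = (Y.basicOpen t : Set Y)ᶜ := by
  refine (IsCompl.compl_eq ⟨?_, ?_⟩).symm
  · rw [Set.disjoint_iff_inter_eq_empty, ← Opens.coe_inf, ← Scheme.basicOpen_mul]
    simp [mul_sub, ht, Scheme.basicOpen_zero]
  · rw [codisjoint_iff]
    show (Y.basicOpen t : Set Y) ∪ Y.basicOpen (1 - t) = Set.univ
    rw [← Opens.coe_sup, ← Opens.coe_top, SetLike.coe_set_eq, eq_top_iff]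
    refine le_trans ?_ (Y.basicOpen_add_le t (1 - t))
    rw [add_sub_cancel, Scheme.basicOpen_of_isUnit _ isUnit_one]

/-- Idempotent functions with the same non-vanishing locus are equal. -/
theorem eq_of_basicOpen_eq {Y : Scheme.{u}} {a b : Γ(Y, ⊤)} (ha : a * a = a) (hb : b * b = b)
    (h : (Y.basicOpen a : Set Y) = Y.basicOpen b) : a = b := by
  have key : ∀ a b : Γ(Y, ⊤), a * a = a → b * b = b → (Y.basicOpen a : Set Y) = Y.basicOpen b → a * (1 - b) = 0 := by
    intro a b ha hb h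
    have hw : (a * (1 - b)) * (a * (1 - b)) = a * (1 - b) := by linear_combination (1 - b) ^ 2 * ha + a * hb
    have hbot : (Y.basicOpen (a * (1 - b)) : Set Y) = ∅ := by
      rw [Scheme.basicOpen_mul, Opens.coe_inf, basicOpen_compl_of_idem hb, h, Set.inter_compl_self]
    have hu : IsUnit (1 - a * (1 - b)) := by
      refine Y.toRingedSpace.isUnit_of_isUnit_germ ⊤ _ fun y hy => ?_
      have hy' : y ∈ (Y.basicOpen (1 - a * (1 - b)) : Set Y) := by
        rw [basicOpen_compl_of_idem hw, hbot]; exact fun h => h.elim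
      exact ((Scheme.mem_basicOpen'' Y _ y).mp hy').2
    refine hu.mul_left_eq_zero.mp ?_
    linear_combination -hw
  have h1 := key a b ha hb h
  have h2 := key b a hb ha h.symm
  linear_combination h1 - h2

variable {X X₀ : Scheme.{u}} (i : X₀ ⟶ X) [IsClosedImmersion i]

/-- The couple `(X, X₀)` is henselian. -/
def IsCouple : Prop := ∀ (Y : Scheme.{u}) (g : Y ⟶ X), IsFinite g → Lifts (g ⁻¹' Set.range i)

theorem notMem_range_of_app_eq_zero {j : Γ(X, ⊤)} (hj : i.appTop j = 0) (p : X₀) : i p ∉ X.basicOpen j := by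
  intro h
  have : p ∈ i ⁻¹ᵁ X.basicOpen j := h
  rw [Scheme.preimage_basicOpen_top, hj, Scheme.basicOpen_zero] at this
  exact this.elim

theorem le_jacobson (hX : IsCouple i) : RingHom.ker i.appTop.hom ≤ Ideal.jacobson ⊥ := by
  intro x hx
  rw [Ideal.mem_jacobson_bot]
  intro y
  let s : Γ(X, ⊤) := x * y + 1
  let σ := Spec.map (CommRingCat.ofHom (Ideal.Quotient.mk (Ideal.span {s})))
  haveI : IsClosedImmersion σ := IsClosedImmersion.spec_of_surjective _ Ideal.Quotient.mk_surjective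
  let g := pullback.fst X.toSpecΓ σ
  have hrange : Set.range g = (X.basicOpen s : Set X)ᶜ := by
    rw [Scheme.Pullback.range_fst, ← Scheme.toSpecΓ_preimage_basicOpen,
      show Set.range σ = Set.range (PrimeSpectrum.comap (Ideal.Quotient.mk (Ideal.span {s}))) from rfl,
      range_comap_of_surjective _ _ Ideal.Quotient.mk_surjective, Ideal.mk_ker, PrimeSpectrum.zeroLocus_span]
    show _ = (X.toSpecΓ ⁻¹' (PrimeSpectrum.basicOpen s : Set (PrimeSpectrum Γ(X, ⊤))))ᶜ
    rw [← Set.preimage_compl, PrimeSpectrum.basicOpen_eq_zeroLocus_compl]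
    exact congrArg _ (compl_compl _).symm
  have hsu : ∀ p, i p ∈ X.basicOpen s := fun p => by
    show p ∈ i ⁻¹ᵁ X.basicOpen s
    rw [Scheme.preimage_basicOpen_top, map_add, map_mul, RingHom.mem_ker.mp hx, zero_mul, zero_add, map_one,
      Scheme.basicOpen_of_isUnit _ isUnit_one]
    trivial
  obtain ⟨U, -, hu⟩ := hX _ g inferInstance ∅ isClopen_empty
  have hdis : ∀ z, g z ∉ Set.range i := fun z ⟨p, hp⟩ => by
    have : g z ∈ Set.range g := ⟨z, rfl⟩
    rw [hrange] at this
    exact this (hp ▸ hsu p)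
  have h1 := hu Set.univ ⟨isClopen_univ, Set.eq_empty_of_forall_notMem fun z _ => hdis _ z.2⟩
  have h2 := hu ∅ ⟨isClopen_empty, Set.preimage_empty⟩
  refine X.toRingedSpace.isUnit_of_isUnit_germ ⊤ _ fun z hz => ?_
  have hz' : z ∈ X.basicOpen s := by
    by_contra h
    have : z ∈ Set.range g := by rw [hrange]; exact h
    obtain ⟨w, rfl⟩ := this
    exact (h1.trans h2.symm).subset (Set.mem_univ w)
  exact ((Scheme.mem_basicOpen'' X _ z).mp hz').2

variable [CompactSpace X] [QuasiSeparatedSpace X]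

theorem toSpecΓ_appTop_inv : (Scheme.ΓSpecIso Γ(X, ⊤)).inv ≫ X.toSpecΓ.appTop = 𝟙 _ := by
  rw [Scheme.toSpecΓ_appTop, Iso.inv_hom_id]

theorem exists_idempotent_lift (hX : IsCouple i) (B : Type u) [CommRing B] [Algebra Γ(X, ⊤) B]
    [Module.Free Γ(X, ⊤) B] [Module.Finite Γ(X, ⊤) B] (b : B)
    (hb : b * b - b ∈ (RingHom.ker i.appTop.hom).map (algebraMap Γ(X, ⊤) B)) :
    ∃ e : B, IsIdempotentElem e ∧ e - b ∈ (RingHom.ker i.appTop.hom).map (algebraMap Γ(X, ⊤) B) := by
  classical
  haveI : CompactSpace X₀ := i.isClosedEmbedding.compactSpace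
  haveI : QuasiSeparatedSpace X₀ := quasiSeparatedSpace_of_quasiSeparated i
  let A := Γ(X, ⊤)
  let s := Spec.map (CommRingCat.ofHom (algebraMap A B))
  haveI : IsFinite s := by rw [IsFinite.SpecMap_iff]; exact RingHom.finite_algebraMap.mpr inferInstance
  haveI : Flat s := by
    rw [HasRingHomProperty.Spec_iff (P := @Flat)]; exact RingHom.flat_algebraMap_iff.mpr inferInstance
  let Y := pullback X.toSpecΓ s
  let g : Y ⟶ X := pullback.fst _ _
  let q : Y ⟶ Spec (CommRingCat.of B) := pullback.snd _ _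
  have HY : IsPullback g q X.toSpecΓ s := IsPullback.of_hasPullback _ _
  -- the functions on `Y` are the elements of `B`
  let φ : CommRingCat.of B ⟶ Γ(Y, ⊤) := (Scheme.ΓSpecIso (CommRingCat.of B)).inv ≫ q.appTop
  have hφ : Function.Bijective φ.hom := by
    haveI : IsIso X.toSpecΓ.appTop := by rw [Scheme.toSpecΓ_appTop]; infer_instance
    haveI : IsIso q.appTop := (isPushout_appTop HY).isIso_inr_of_isIso
    exact ConcreteCategory.bijective_of_isIso φ
  have hφA : ∀ a : A, φ.hom (algebraMap A B a) = g.appTop.hom a := fun a => by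
    have h1 : CommRingCat.ofHom (algebraMap A B) ≫ φ = g.appTop := by
      rw [← Category.assoc, Scheme.ΓSpecIso_inv_naturality, Category.assoc, ← Scheme.Hom.comp_appTop, ← HY.w,
        Scheme.Hom.comp_appTop, ← Category.assoc]
      exact (congrArg (· ≫ g.appTop) toSpecΓ_appTop_inv).trans (Category.id_comp _)
    exact congr($(h1).hom a)
  -- the closed subscheme
  let Y₀ := pullback g i
  let k : Y₀ ⟶ Y := pullback.fst _ _
  let g₀ : Y₀ ⟶ X₀ := pullback.snd _ _
  have H₀ : IsPullback g₀ (k ≫ q) (i ≫ X.toSpecΓ) s :=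
    (IsPullback.of_hasPullback g i).flip.paste_vert HY
  let ψ : CommRingCat.of B ⟶ Γ(Y₀, ⊤) := φ ≫ k.appTop
  have hker : ∀ c : B, ψ.hom c = 0 → c ∈ (RingHom.ker i.appTop.hom).map (algebraMap A B) := by
    intro c hc
    letI : Algebra A Γ(X₀, ⊤) := i.appTop.hom.toAlgebra
    letI : Algebra Γ(X₀, ⊤) Γ(Y₀, ⊤) := g₀.appTop.hom.toAlgebra
    letI : Algebra B Γ(Y₀, ⊤) := ψ.hom.toAlgebra
    letI : Algebra A Γ(Y₀, ⊤) := (g₀.appTop.hom.comp i.appTop.hom).toAlgebra
    have hpo := isPushout_appTop H₀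
    have hpo' : IsPushout i.appTop (CommRingCat.ofHom (algebraMap A B)) g₀.appTop ψ := by
      refine hpo.of_iso (Scheme.ΓSpecIso (CommRingCat.of A)) (Iso.refl _) (Scheme.ΓSpecIso (CommRingCat.of B))
        (Iso.refl _) ?_ ?_ ?_ ?_
      · rw [Scheme.Hom.comp_appTop, Iso.refl_hom, Category.comp_id, Scheme.toSpecΓ_appTop]
        rfl
      · exact Scheme.ΓSpecIso_naturality _
      · simp
      · simp only [ψ, φ, Category.assoc, Iso.refl_hom, Category.comp_id, Scheme.Hom.comp_appTop, Iso.hom_inv_id_assoc]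
    haveI : IsScalarTower A Γ(X₀, ⊤) Γ(Y₀, ⊤) := IsScalarTower.of_algebraMap_eq' rfl
    haveI : IsScalarTower A B Γ(Y₀, ⊤) := IsScalarTower.of_algebraMap_eq' (congrArg CommRingCat.Hom.hom hpo'.w)
    haveI : Algebra.IsPushout A Γ(X₀, ⊤) B Γ(Y₀, ⊤) := CommRingCat.isPushout_iff_isPushout.1 hpo'
    have h0 : (1 : Γ(X₀, ⊤)) ⊗ₜ[A] c = 0 := by
      refine (Algebra.IsPushout.equiv A Γ(X₀, ⊤) B Γ(Y₀, ⊤)).injective ?_
      rw [Algebra.IsPushout.equiv_tmul, map_zero, map_one, one_mul]
      exact hc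
    let bB := Module.Free.chooseBasis A B
    rw [← bB.sum_repr c]
    refine Ideal.sum_mem _ fun j _ => ?_
    rw [Algebra.smul_def]
    refine Ideal.mul_mem_right _ _ (Ideal.mem_map_of_mem _ ?_)
    have := DFunLike.congr_fun (congrArg (Algebra.TensorProduct.basis Γ(X₀, ⊤) bB).repr h0) j
    rw [Algebra.TensorProduct.basis_repr_tmul] at this
    simpa [RingHom.algebraMap_toAlgebra] using this
  -- the clopen subset of the closed part
  have hvan : ∀ c ∈ (RingHom.ker i.appTop.hom).map (algebraMap A B), ∀ y ∈ g ⁻¹' Set.range i, y ∉ Y.basicOpen (φ.hom c) := by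
    intro c hc y hy
    induction hc using Submodule.span_induction with
    | mem c hc =>
      obtain ⟨p, hp⟩ := hy
      obtain ⟨j, hj, rfl⟩ := hc
      rw [hφA, ← Scheme.preimage_basicOpen_top]
      show g y ∉ X.basicOpen j
      rw [← hp]
      exact notMem_range_of_app_eq_zero i hj p
    | zero => rw [map_zero, Scheme.basicOpen_zero]; exact fun h => h.elim
    | add c d _ _ hc hd =>
      rw [map_add]
      exact fun h => (Y.basicOpen_add_le _ _ h).elim hc hd
    | smul a c _ hc =>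
      rw [smul_eq_mul, map_mul, Scheme.basicOpen_mul]
      exact fun h => hc h.2
  let V : Set (g ⁻¹' Set.range i : Set Y) := Subtype.val ⁻¹' (Y.basicOpen (φ.hom b) : Set Y)
  have hV : IsClopen V := by
    refine ⟨⟨?_⟩, (Y.basicOpen (φ.hom b)).isOpen.preimage continuous_subtype_val⟩
    have : Vᶜ = Subtype.val ⁻¹' (Y.basicOpen (φ.hom (1 - b)) : Set Y) := by
      ext ⟨y, hy⟩
      constructor
      · intro h
        by_contra h'
        have htop : y ∈ Y.basicOpen (φ.hom b + φ.hom (1 - b)) := by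
          rw [← map_add, add_sub_cancel, map_one, Scheme.basicOpen_of_isUnit _ isUnit_one]; trivial
        exact (Y.basicOpen_add_le _ _ htop).elim h h'
      · intro h h'
        refine hvan (b * b - b) hb y hy ?_
        rw [show b * b - b = (-1) * (b * (1 - b)) by ring, map_mul, map_mul, Scheme.basicOpen_mul,
          Scheme.basicOpen_mul, Scheme.basicOpen_of_isUnit _ ((IsUnit.neg isUnit_one).map φ.hom)]
        exact ⟨trivial, h', h⟩
    rw [this]
    exact (Y.basicOpen (φ.hom (1 - b))).isOpen.preimage continuous_subtype_val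
  obtain ⟨U, ⟨hU, hUV⟩, -⟩ := hX Y g inferInstance V hV
  obtain ⟨ε, hε, hεU⟩ := exists_idempotent_of_isClopen hU
  obtain ⟨e, he⟩ := hφ.2 ε
  refine ⟨e, hφ.1 (by rw [map_mul, he, hε]), ?_⟩
  refine hker _ ?_
  rw [map_sub, sub_eq_zero]
  refine eq_of_basicOpen_eq ?_ ?_ ?_
  · rw [← map_mul, show e * e = e from hφ.1 (by rw [map_mul, he, hε])]
  · rw [← map_mul, ← sub_eq_zero, ← map_sub]
    show k.appTop.hom (φ.hom (b * b - b)) = 0
    have hkerle : (RingHom.ker i.appTop.hom).map (algebraMap A B) ≤ RingHom.ker ψ.hom := by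
      rw [Ideal.map_le_iff_le_comap]
      intro a ha
      show k.appTop.hom (φ.hom (algebraMap A B a)) = 0
      rw [hφA, ← RingHom.comp_apply, ← CommRingCat.hom_comp, ← Scheme.Hom.comp_appTop, pullback.condition,
        Scheme.Hom.comp_appTop, CommRingCat.hom_comp, RingHom.comp_apply, RingHom.mem_ker.mp ha, map_zero]
    exact hkerle hb
  · show (Y₀.basicOpen (k.appTop (φ.hom e)) : Set Y₀) = Y₀.basicOpen (k.appTop (φ.hom b))
    rw [← Scheme.preimage_basicOpen_top, ← Scheme.preimage_basicOpen_top, he]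
    ext z
    have hz : k z ∈ g ⁻¹' Set.range i := ⟨g₀ z, by
      rw [← Scheme.Hom.comp_apply, ← pullback.condition, Scheme.Hom.comp_apply]⟩
    show k z ∈ (Y.basicOpen ε : Set Y) ↔ k z ∈ Y.basicOpen (φ.hom b)
    rw [hεU]
    exact Set.ext_iff.mp hUV ⟨k z, hz⟩

theorem henselianRing_gamma (hX : IsCouple i) : HenselianRing Γ(X, ⊤) (RingHom.ker i.appTop.hom) := by
  have jac := le_jacobson i hX
  refine Hensel.henselianRing_iff_gabberCond.mpr ⟨jac, fun N hN f hf hmap => ?_⟩
  haveI := hf.finite_adjoinRoot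
  haveI := hf.free_adjoinRoot
  refine Hensel.exists_root_of_idempotent_lift jac hN hf hmap fun hid => ?_
  obtain ⟨e, he, heb⟩ := exists_idempotent_lift i hX (AdjoinRoot f) (AdjoinRoot.root f ^ N)
    (by rw [← Ideal.Quotient.eq, map_mul, map_pow]; exact hid)
  exact ⟨e, he, by rw [← map_pow, Ideal.Quotient.eq]; exact heb⟩

end Groth.Agent.HensCouple7
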