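import Groth.Agent.HensCouple7.Coprod
import Groth.Agent.Hensel.PairBasic

/-!
# Henselian pairs and lifting of clopens along finite morphisms to an affine scheme
-/

universe u

open CategoryTheory CategoryTheory.Limits AlgebraicGeometry Topology

namespace Groth.Agent.HensCouple7

theorem lifts_zeroLocus_iff {B : Type u} [CommRing B] (J : Ideal B) :
    Lifts (PrimeSpectrum.zeroLocus (J : Set B)) ↔
      Set.BijOn (Ideal.Quotient.mk J) {e : B | IsIdempotentElem e} {e | IsIdempotentElem e} := by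
  let φ := PrimeSpectrum.comap (Ideal.Quotient.mk J)
  have hφ : IsEmbedding φ := (PrimeSpectrum.isClosedEmbedding_comap_of_surjective _ _ Ideal.Quotient.mk_surjective).isEmbedding
  have hr : Set.range φ = PrimeSpectrum.zeroLocus (J : Set B) := by
    rw [range_comap_of_surjective _ _ Ideal.Quotient.mk_surjective, Ideal.mk_ker]
  rw [← hr, ← lifts_range_iff hφ]
  have hpre : ∀ e : B, φ ⁻¹' (PrimeSpectrum.basicOpen e : Set (PrimeSpectrum B)) =
      PrimeSpectrum.basicOpen (Ideal.Quotient.mk J e) := fun e => rfl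
  constructor
  · intro h
    refine ⟨fun e he => he.map _, fun e he e' he' hee => ?_, fun c hc => ?_⟩
    · obtain ⟨U, -, hu⟩ := h _ (PrimeSpectrum.isClopen_iff.mpr ⟨Ideal.Quotient.mk J e, he.map _, rfl⟩)
      refine PrimeSpectrum.basicOpen_injOn_isIdempotentElem he he' (SetLike.ext' ?_)
      refine (hu _ ⟨PrimeSpectrum.isClopen_iff.mpr ⟨e, he, rfl⟩, hpre e⟩).trans (hu _ ⟨PrimeSpectrum.isClopen_iff.mpr ⟨e', he', rfl⟩, ?_⟩).symm
      rw [hpre, hee]
    · obtain ⟨U, ⟨hU, hUc⟩, -⟩ := h _ (PrimeSpectrum.isClopen_iff.mpr ⟨c, hc, rfl⟩)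
      obtain ⟨e, he, rfl⟩ := PrimeSpectrum.isClopen_iff.mp hU
      rw [hpre] at hUc
      exact ⟨e, he, PrimeSpectrum.basicOpen_injOn_isIdempotentElem (he.map _) hc (SetLike.ext' hUc)⟩
  · intro h V hV
    obtain ⟨c, hc, rfl⟩ := PrimeSpectrum.isClopen_iff.mp hV
    obtain ⟨e, he, hec⟩ := h.surjOn hc
    refine ⟨PrimeSpectrum.basicOpen e, ⟨PrimeSpectrum.isClopen_iff.mpr ⟨e, he, rfl⟩, by rw [hpre, hec]⟩, ?_⟩
    rintro U ⟨hU, hUV⟩
    obtain ⟨e', he', rfl⟩ := PrimeSpectrum.isClopen_iff.mp hU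
    rw [hpre] at hUV
    rw [h.injOn he' he ((PrimeSpectrum.basicOpen_injOn_isIdempotentElem (he'.map _) hc (SetLike.ext' hUV)).trans hec.symm)]

theorem lifts_homeomorph {Y Y' : Type u} [TopologicalSpace Y] [TopologicalSpace Y'] (φ : Y ≃ₜ Y') (Z : Set Y')
    (h : Lifts Z) : Lifts (φ ⁻¹' Z) :=
  lifts_of_cover (ι := PUnit.{u + 1}) (W := fun _ => Y') (e := fun _ => φ.symm) (fun _ => φ.symm.isOpenEmbedding)
    (fun _ _ _ _ _ => rfl) (fun y => ⟨PUnit.unit, φ y, φ.symm_apply_apply y⟩) fun _ => by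
      rwa [← Set.preimage_comp, φ.self_comp_symm, Set.preimage_id]

theorem henselianRing_iff_lifts (A : Type u) [CommRing A] (I : Ideal A) :
    HenselianRing A I ↔
      ∀ (Y : Scheme.{u}) (g : Y ⟶ Spec (CommRingCat.of A)), IsFinite g →
        Lifts (g ⁻¹' PrimeSpectrum.zeroLocus (I : Set A)) := by
  have hpre : ∀ (B : Type u) [CommRing B] (f : A →+* B),
      PrimeSpectrum.comap f ⁻¹' PrimeSpectrum.zeroLocus (I : Set A) = PrimeSpectrum.zeroLocus (I.map f : Set B) :=
    fun B _ f => by rw [PrimeSpectrum.preimage_comap_zeroLocus, Ideal.map, PrimeSpectrum.zeroLocus_span]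
  constructor
  · intro hA Y g hg
    obtain ⟨hY, hfin⟩ := (HasAffineProperty.iff_of_isAffine (P := @IsFinite)).mp hg
    let f : A →+* Γ(Y, ⊤) := ((Scheme.ΓSpecIso (CommRingCat.of A)).inv ≫ g.appTop).hom
    letI : Algebra A Γ(Y, ⊤) := f.toAlgebra
    haveI : Module.Finite A Γ(Y, ⊤) := RingHom.Finite.comp hfin
      (RingHom.Finite.of_surjective _ (ConcreteCategory.bijective_of_isIso (Scheme.ΓSpecIso (CommRingCat.of A)).inv).2)
    have hgf : g = Y.isoSpec.hom ≫ Spec.map (CommRingCat.ofHom f) := by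
      rw [CommRingCat.ofHom_hom, Spec.map_comp, Scheme.isoSpec_hom_naturality_assoc]
      simp
    have h := (lifts_zeroLocus_iff (I.map f)).mpr
      (((Hensel.henselianRing_iff_idempotents_lift I).mp hA) Γ(Y, ⊤) inferInstance)
    rw [← hpre] at h
    rw [hgf]
    exact lifts_homeomorph (Scheme.Hom.homeomorph Y.isoSpec.hom) _ h
  · intro h
    refine Hensel.henselianRing_of_idempotents_lift fun B _ _ _ => ?_
    haveI : IsFinite (Spec.map (CommRingCat.ofHom (algebraMap A B))) := by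
      rw [IsFinite.SpecMap_iff]; exact RingHom.finite_algebraMap.mpr inferInstance
    have := h _ (Spec.map (CommRingCat.ofHom (algebraMap A B))) inferInstance
    exact (lifts_zeroLocus_iff _).mp (by rwa [← hpre])

end Groth.Agent.HensCouple7
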