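import Mathlib

/-!
# Henselian couples and disjoint unions, in terms of clopen subsets
-/

universe u

open CategoryTheory CategoryTheory.Limits AlgebraicGeometry Topology

namespace Groth.Agent.HensCouple7

section topology

variable {Y : Type u} [TopologicalSpace Y]

/-- Every relatively clopen subset of `Z` is the trace of exactly one clopen subset. -/
def Lifts (Z : Set Y) : Prop :=
  ∀ V : Set Z, IsClopen V → ∃! U : Set Y, IsClopen U ∧ Subtype.val ⁻¹' U = V

theorem lifts_range_iff {P : Type u} [TopologicalSpace P] {f : P → Y} (hf : IsEmbedding f) :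
    (∀ V : Set P, IsClopen V → ∃! U : Set Y, IsClopen U ∧ f ⁻¹' U = V) ↔ Lifts (Set.range f) := by
  let φ := hf.toHomeomorph
  constructor
  · intro h V hV
    obtain ⟨U, ⟨hU, hUV⟩, hu⟩ := h (φ ⁻¹' V) (hV.preimage φ.continuous)
    refine ⟨U, ⟨hU, ?_⟩, fun U' hU' => hu U' ⟨hU'.1, ?_⟩⟩
    · ext z
      obtain ⟨p, rfl⟩ := φ.surjective z
      exact Set.ext_iff.mp hUV p
    · rw [← hU'.2]; rfl
  · intro h V hV
    obtain ⟨U, ⟨hU, hUV⟩, hu⟩ := h (φ.symm ⁻¹' V) (hV.preimage φ.symm.continuous)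
    refine ⟨U, ⟨hU, ?_⟩, fun U' hU' => hu U' ⟨hU'.1, ?_⟩⟩
    · ext p
      have := Set.ext_iff.mp hUV (φ p)
      rw [Set.mem_preimage, Set.mem_preimage, φ.symm_apply_apply] at this
      exact this
    · ext z
      obtain ⟨p, rfl⟩ := φ.surjective z
      refine (Set.ext_iff.mp hU'.2 p).trans ?_
      rw [Set.mem_preimage, φ.symm_apply_apply]

variable {ι : Type u} {W : ι → Type u} [∀ j, TopologicalSpace (W j)] {e : ∀ j, W j → Y} {Z : Set Y}

theorem lifts_of_cover (he : ∀ j, IsOpenEmbedding (e j))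
    (hd : ∀ i j a b, e i a = e j b → i = j) (hc : ∀ y, ∃ j a, e j a = y)
    (h : ∀ j, Lifts (e j ⁻¹' Z)) : Lifts Z := by
  intro V hV
  let r : ∀ j, (e j ⁻¹' Z : Set (W j)) → Z := fun j a => ⟨e j a.1, a.2⟩
  have hr : ∀ j, Continuous (r j) := fun j =>
    ((he j).continuous.comp continuous_subtype_val).subtype_mk _
  choose U hU hu using fun j => h j (r j ⁻¹' V) (hV.preimage (hr j))
  have hmem : ∀ j a, e j a ∈ ⋃ i, e i '' U i ↔ a ∈ U j := fun j a => by
    refine ⟨fun hm => ?_, fun ha => Set.mem_iUnion.2 ⟨j, a, ha, rfl⟩⟩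
    obtain ⟨i, b, hb, hba⟩ := Set.mem_iUnion.1 hm
    obtain rfl := hd _ _ _ _ hba
    rwa [← (he i).injective hba]
  refine ⟨⋃ j, e j '' U j, ⟨⟨⟨?_⟩, ?_⟩, ?_⟩, fun U' hU' => ?_⟩
  · have : (⋃ j, e j '' U j)ᶜ = ⋃ j, e j '' (U j)ᶜ := by
      ext y
      obtain ⟨j, a, rfl⟩ := hc y
      rw [Set.mem_compl_iff, hmem]
      refine ⟨fun ha => Set.mem_iUnion.2 ⟨j, a, ha, rfl⟩, fun hm => ?_⟩
      obtain ⟨i, b, hb, hba⟩ := Set.mem_iUnion.1 hm
      obtain rfl := hd _ _ _ _ hba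
      rwa [← (he i).injective hba]
    rw [this]
    exact isOpen_iUnion fun j => (he j).isOpenMap _ (hU j).1.compl.isOpen
  · exact isOpen_iUnion fun j => (he j).isOpenMap _ (hU j).1.isOpen
  · ext ⟨y, hy⟩
    obtain ⟨j, a, rfl⟩ := hc y
    rw [Set.mem_preimage, hmem]
    exact Set.ext_iff.mp (hU j).2 ⟨a, hy⟩
  · have hj : ∀ j, e j ⁻¹' U' = U j := fun j => hu j _ ⟨hU'.1.preimage (he j).continuous, by rw [← hU'.2]; rfl⟩
    ext y
    obtain ⟨j, a, rfl⟩ := hc y
    rw [hmem, ← hj]; rfl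

end topology

theorem scheme_lifts_iff {Y X X₀ : Scheme.{u}} (g : Y ⟶ X) (i : X₀ ⟶ X) [IsClosedImmersion i] :
    (∀ V : Set ↥(pullback g i), IsClopen V →
      ∃! U : Set ↥Y, IsClopen U ∧ (pullback.fst g i).base ⁻¹' U = V) ↔ Lifts (g ⁻¹' Set.range i) := by
  rw [← Scheme.Pullback.range_fst]
  exact lifts_range_iff (pullback.fst g i).isClosedEmbedding.isEmbedding

variable {ι : Type u} {X X₀ : ι → Scheme.{u}}

theorem preimage_range_map (i : ∀ j, X₀ j ⟶ X j) (j : ι) :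
    Sigma.ι X j ⁻¹' Set.range (Limits.Sigma.map i) = Set.range (i j) := by
  ext a
  constructor
  · rintro ⟨b, hb⟩
    obtain ⟨⟨k, c⟩, rfl⟩ := (sigmaMk X₀).surjective b
    rw [sigmaMk_mk, ← Scheme.Hom.comp_apply, Sigma.ι_map, Scheme.Hom.comp_apply] at hb
    obtain ⟨rfl⟩ := (sigmaι_eq_iff X _ _ _ _).mp hb
    exact ⟨c, rfl⟩
  · rintro ⟨c, rfl⟩
    exact ⟨Sigma.ι X₀ j c, by rw [← Scheme.Hom.comp_apply, Sigma.ι_map]; rfl⟩

theorem isFinite_sigmaι (j : ι) : IsFinite (Sigma.ι X j) := by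
  haveI : IsClosedImmersion (Sigma.ι X j) := .of_isPreimmersion _ (by
    refine ⟨?_⟩
    have : (Set.range (Sigma.ι X j))ᶜ = ⋃ k ∈ {k | k ≠ j}, Set.range (Sigma.ι X k) := by
      ext b
      obtain ⟨⟨k, c⟩, rfl⟩ := (sigmaMk X).surjective b
      rw [sigmaMk_mk]
      simp only [Set.mem_compl_iff, Set.mem_range, Set.mem_iUnion, Set.mem_setOf_eq, exists_prop]
      refine ⟨fun h => ⟨k, fun hk => h (by subst hk; exact ⟨c, rfl⟩), c, rfl⟩, ?_⟩
      rintro ⟨k', hk', a, ha⟩ ⟨a', ha'⟩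
      exact hk' (congrArg Sigma.fst ((sigmaι_eq_iff X _ _ _ _).mp (ha.trans ha'.symm)))
    rw [this]
    exact isOpen_biUnion fun k _ => (Sigma.ι X k).isOpenEmbedding.isOpen_range)
  infer_instance

theorem isClosedImmersion_map (i : ∀ j, X₀ j ⟶ X j) [∀ j, IsClosedImmersion (i j)] :
    IsClosedImmersion (Limits.Sigma.map i) := by
  refine (IsZariskiLocalAtTarget.iff_of_openCover (P := @IsClosedImmersion) (sigmaOpenCover X)).mpr fun j => ?_
  have hpb : IsPullback (i j) (Sigma.ι X₀ j) (Sigma.ι X j) (Limits.Sigma.map i) := by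
    refine IsOpenImmersion.isPullback _ _ _ _ (Sigma.ι_map i j) (TopologicalSpace.Opens.ext ?_)
    ext b
    obtain ⟨⟨k, c⟩, rfl⟩ := (sigmaMk X₀).surjective b
    rw [sigmaMk_mk]
    show Limits.Sigma.map i (Sigma.ι X₀ k c) ∈ Set.range (Sigma.ι X j) ↔ Sigma.ι X₀ k c ∈ Set.range (Sigma.ι X₀ j)
    rw [← Scheme.Hom.comp_apply, Sigma.ι_map, Scheme.Hom.comp_apply]
    constructor
    · rintro ⟨a, ha⟩
      obtain rfl : j = k := congrArg Sigma.fst ((sigmaι_eq_iff X _ _ _ _).mp ha)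
      exact ⟨c, rfl⟩
    · rintro ⟨a, ha⟩
      obtain rfl : j = k := congrArg Sigma.fst ((sigmaι_eq_iff X₀ _ _ _ _).mp ha)
      exact ⟨_, rfl⟩
  show IsClosedImmersion (pullback.snd (Limits.Sigma.map i) (Sigma.ι X j))
  rw [← hpb.flip.isoPullback_inv_snd, MorphismProperty.cancel_left_of_respectsIso (P := @IsClosedImmersion)]
  infer_instance

/-- A disjoint union of couples is henselian iff each of them is. -/
theorem henselian_coproduct_iff (i : ∀ j, X₀ j ⟶ X j) [∀ j, IsClosedImmersion (i j)] :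
    (∀ (Y : Scheme.{u}) (g : Y ⟶ ∐ X), IsFinite g → Lifts (g ⁻¹' Set.range (Limits.Sigma.map i))) ↔
      ∀ j : ι, ∀ (Y : Scheme.{u}) (g : Y ⟶ X j), IsFinite g → Lifts (g ⁻¹' Set.range (i j)) := by
  constructor
  · intro h j Y g hg
    haveI := isFinite_sigmaι (X := X) j
    have := h Y (g ≫ Sigma.ι X j) inferInstance
    rwa [Scheme.Hom.comp_base, TopCat.coe_comp, Set.preimage_comp, preimage_range_map] at this
  · intro h Y g hg
    refine lifts_of_cover (W := fun j => ↥(pullback g (Sigma.ι X j)))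
      (e := fun j => (pullback.fst g (Sigma.ι X j)).base)
      (fun j => (pullback.fst g (Sigma.ι X j)).isOpenEmbedding) ?_ ?_ fun j => ?_
    · intro j k a b hab
      have h1 := congrArg g hab
      rw [← Scheme.Hom.comp_apply, ← Scheme.Hom.comp_apply, pullback.condition, pullback.condition,
        Scheme.Hom.comp_apply, Scheme.Hom.comp_apply] at h1
      exact congrArg Sigma.fst ((sigmaι_eq_iff X _ _ _ _).mp h1)
    · intro y
      obtain ⟨⟨j, c⟩, hc⟩ := (sigmaMk X).surjective (g y)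
      rw [sigmaMk_mk] at hc
      have hy : y ∈ Set.range (pullback.fst g (Sigma.ι X j)) := by
        rw [Scheme.Pullback.range_fst]; exact ⟨c, hc⟩
      exact ⟨j, hy⟩
    · have := h j _ (pullback.snd g (Sigma.ι X j)) inferInstance
      rwa [← preimage_range_map, ← Set.preimage_comp, ← TopCat.coe_comp, ← Scheme.Hom.comp_base,
        ← pullback.condition, Scheme.Hom.comp_base, TopCat.coe_comp, Set.preimage_comp] at this

end Groth.Agent.HensCouple7
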